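import Groth.Agent.FlatFunHx.Cover
import Groth.Agent.GrFlat5.FlatAtIso
import Groth.Agent.S1392
import Groth.Agent.QCoh.Pullback
import Groth.Agent.FibDim.BaseChange
import Groth.Agent.FibDim.Minimal
import Groth.Agent.FibDim.AffineSpaceFibre
import Mathlib.AlgebraicGeometry.Morphisms.Etale

/-!
# fpqc descent for flatness (in dimensions `≥ n`) of base changes
-/

set_option autoImplicit false
set_option linter.style.haveILetI false
set_option backward.isDefEq.respectTransparency false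

universe w u

open CategoryTheory CategoryTheory.Limits AlgebraicGeometry Opposite TensorProduct

namespace Groth.Agent.FlatFunHx

/-- Pullback along a morphism flat at a point preserves flatness over the base at that point. -/
theorem isFlatOverAt_pullback_of_flat {Y' Y S : Scheme.{u}} (q : Y ⟶ S) (m : Y' ⟶ Y) (M : Y.Modules) (x : Y')
    (hm : (m.stalkMap x).hom.Flat) (h : FlatMod.IsFlatOverAt q M (m x)) :
    FlatMod.IsFlatOverAt (m ≫ q) ((Scheme.Modules.pullback m).obj M) x := by
  letI := FlatMod.moduleStalkOver (m ≫ q) ((Scheme.Modules.pullback m).obj M) x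
  letI := FlatMod.moduleStalkOver q M (m x)
  letI : Algebra (S.presheaf.stalk (q (m x))) (Y.presheaf.stalk (m x)) := (q.stalkMap (m x)).hom.toAlgebra
  letI : Algebra (Y.presheaf.stalk (m x)) (Y'.presheaf.stalk x) := (m.stalkMap x).hom.toAlgebra
  letI : Algebra (S.presheaf.stalk (q (m x))) (Y'.presheaf.stalk x) := ((m ≫ q).stalkMap x).hom.toAlgebra
  haveI : IsScalarTower (S.presheaf.stalk (q (m x))) (Y.presheaf.stalk (m x)) (Y'.presheaf.stalk x) :=
    .of_algebraMap_eq fun r => by
      show ((m ≫ q).stalkMap x).hom r = (m.stalkMap x).hom ((q.stalkMap (m x)).hom r)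
      rw [Scheme.Hom.stalkMap_comp]; rfl
  haveI : IsScalarTower (S.presheaf.stalk (q (m x))) (Y.presheaf.stalk (m x)) (M.presheaf.stalk (m x)) :=
    .of_algebraMap_smul fun _ _ => rfl
  letI : Module (S.presheaf.stalk (q (m x))) (((Scheme.Modules.pullback m).obj M).presheaf.stalk x) :=
    FlatMod.moduleStalkOver (m ≫ q) ((Scheme.Modules.pullback m).obj M) x
  haveI : IsScalarTower (S.presheaf.stalk (q (m x))) (Y'.presheaf.stalk x)
      (((Scheme.Modules.pullback m).obj M).presheaf.stalk x) := .of_algebraMap_smul fun _ _ => rfl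
  haveI : Module.Flat (Y.presheaf.stalk (m x)) (Y'.presheaf.stalk x) := hm
  haveI : Module.Flat (S.presheaf.stalk (q (m x))) (M.presheaf.stalk (m x)) := h
  let e := ((KFlatLib.stalkPullbackIso m x).app M).toLinearEquiv
  let e' : (((Scheme.Modules.pullback m).obj M).presheaf.stalk x) ≃ₗ[S.presheaf.stalk (q (m x))]
      Y'.presheaf.stalk x ⊗[Y.presheaf.stalk (m x)] M.presheaf.stalk (m x) :=
    { toFun := e
      invFun := e.symm
      left_inv := e.left_inv
      right_inv := e.right_inv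
      map_add' := e.map_add
      map_smul' := fun r a => by
        rw [RingHom.id_apply, ← algebraMap_smul (Y'.presheaf.stalk x) r]
        exact e.map_smul _ a }
  haveI := MorLib.FlatBC.flat_tensor_of_flat (R' := S.presheaf.stalk (q (m x))) (B' := Y.presheaf.stalk (m x))
    (L := Y'.presheaf.stalk x) (P := M.presheaf.stalk (m x))
  have hres := Module.Flat.of_linearEquiv e'
  exact hres

variable {X S : Scheme.{u}} (f : X ⟶ S) (F : X.Modules) {T T' : Over S}

/-- The base change of `F_T` to `T'` is `F_{T'}`. -/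
noncomputable def ETIso (g : T' ⟶ T) :
    (Scheme.Modules.pullback (PicF.XTmap f g)).obj (FGA.ET f F T) ≅ FGA.ET f F T' :=
  (pullbackFstIso f g).app F

theorem flatAt_of_hom (g : T' ⟶ T) (x' : PicF.XT f T')
    (h : FlatMod.IsFlatOverAt (PicF.XTproj f T) (FGA.ET f F T) (PicF.XTmap f g x')) :
    FlatMod.IsFlatOverAt (PicF.XTproj f T') (FGA.ET f F T') x' :=
  GrFlat5.isFlatOverAt_of_iso _ (ETIso f F g) x'
    (MorLib.FlatBC.isFlatOverAt_baseChange _ _ _ _ (isPullback_XTmap f g) _ x' h)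

theorem flatAt_of_flat [Coh.IsQCoh F] (g : T' ⟶ T) [Flat g.left] (x' : PicF.XT f T')
    (h : FlatMod.IsFlatOverAt (PicF.XTproj f T') (FGA.ET f F T') x') :
    FlatMod.IsFlatOverAt (PicF.XTproj f T) (FGA.ET f F T) (PicF.XTmap f g x') :=
  S1392.result _ _ _ _ (isPullback_XTmap f g) _ (QCoh.isQCoh_pullback _ (M := F) inferInstance) x'
    (Flat.stalkMap g.left _) (GrFlat5.isFlatOverAt_of_iso _ (ETIso f F g).symm x' h)

/-- `F_T` is flat over `T` in dimensions `≥ n`. -/
abbrev DimFlatAt (n : ℕ) (T : Over S) : Prop :=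
  FlatFun.DimFibresLT n (PicF.XTproj f T) {x | ¬ FlatMod.IsFlatOverAt (PicF.XTproj f T) (FGA.ET f F T) x}

theorem dimFibresLT_iff {Y Z : Scheme.{u}} (q : Y ⟶ Z) [LocallyOfFiniteType q] (n : ℕ) (A : Set Y) :
    FlatFun.DimFibresLT n q A ↔ ∀ x ∈ A, FibDim.rd q x < n := by
  refine forall₂_congr fun x _ => ?_
  show VarDim.rdeg q x < _ ↔ _
  rw [← FibDim.rd_eq_rdeg, Nat.cast_lt]

variable [LocallyOfFiniteType f]

theorem dimFlatAt_of_hom (n : ℕ) (g : T' ⟶ T) (h : DimFlatAt f F n T) : DimFlatAt f F n T' := by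
  rw [DimFlatAt, dimFibresLT_iff] at h ⊢
  exact fun x' hx' => (FibDim.rd_baseChange_le (isPullback_XTmap f g) x').trans_lt
    (h _ fun hc => hx' (flatAt_of_hom f F g x' hc))

theorem dimFlatAt_of_cover [Coh.IsQCoh F] (n : ℕ) {ι : Type w} {Ti : ι → Over S} (gi : ∀ i, Ti i ⟶ T)
    (hf : ∀ i, Flat (gi i).left) (hs : ∀ x, ∃ i, x ∈ Set.range (gi i).left)
    (h : ∀ i, DimFlatAt f F n (Ti i)) : DimFlatAt f F n T := by
  rw [DimFlatAt, dimFibresLT_iff]
  intro x hx
  obtain ⟨i, t, ht⟩ := hs (PicF.XTproj f T x)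
  obtain ⟨x', rfl, -, hrd⟩ := FibDim.exists_rd_baseChange_eq (isPullback_XTmap f (gi i)) x t ht.symm
  have h' := h i
  rw [DimFlatAt, dimFibresLT_iff] at h'
  haveI := hf i
  exact hrd ▸ h' x' fun hc => hx (flatAt_of_flat f F (gi i) x' hc)

end Groth.Agent.FlatFunHx
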