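import Groth.Agent.KFlatLib.Scheme.Pullback
import Groth.Agent.KFlatLib.Scheme.Exact
import Mathlib.Algebra.Category.ModuleCat.Descent
import Mathlib.AlgebraicGeometry.Morphisms.Flat

/-!
# Monomorphisms, epimorphisms, zero maps of modules: detection on stalks, flat descent
-/

set_option autoImplicit false
set_option linter.style.haveILetI false
set_option backward.isDefEq.respectTransparency false

universe u

open CategoryTheory CategoryTheory.Limits AlgebraicGeometry TensorProduct

namespace Groth.Agent.FlatFunHx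

open Groth.Agent.KFlatLib

variable {X Y : Scheme.{u}}

theorem mono_iff_stalk {M N : X.Modules} (φ : M ⟶ N) :
    Mono φ ↔ ∀ x, Mono ((DerSch.stalkFunctor X x).map φ) := by
  refine ⟨fun _ x => inferInstance, fun h => ?_⟩
  refine (ShortComplex.exact_iff_mono (ShortComplex.mk (0 : M ⟶ M) φ zero_comp) rfl).1 ?_
  exact (exact_iff_stalk _).2 fun x => ((ShortComplex.mk (0 : M ⟶ M) φ zero_comp).map
    (DerSch.stalkFunctor X x)).exact_iff_mono ((DerSch.stalkFunctor X x).map_zero _ _) |>.2 (h x)

theorem epi_iff_stalk {M N : X.Modules} (φ : M ⟶ N) :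
    Epi φ ↔ ∀ x, Epi ((DerSch.stalkFunctor X x).map φ) := by
  refine ⟨fun _ x => inferInstance, fun h => ?_⟩
  refine (ShortComplex.exact_iff_epi (ShortComplex.mk φ (0 : N ⟶ N) comp_zero) rfl).1 ?_
  exact (exact_iff_stalk _).2 fun x => ((ShortComplex.mk φ (0 : N ⟶ N) comp_zero).map
    (DerSch.stalkFunctor X x)).exact_iff_epi ((DerSch.stalkFunctor X x).map_zero _ _) |>.2 (h x)

theorem isIso_iff_stalk {M N : X.Modules} (φ : M ⟶ N) :
    IsIso φ ↔ ∀ x, IsIso ((DerSch.stalkFunctor X x).map φ) :=
  ⟨fun _ x => inferInstance, isIso_of_stalk φ⟩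

theorem isIso_kernel_ι_of_eq_zero' {C : Type*} [Category C] [HasZeroMorphisms C] {A B : C} {f : A ⟶ B}
    [HasKernel f] (h : f = 0) : IsIso (kernel.ι f) := by
  subst h; infer_instance

theorem eq_zero_iff_stalk {M N : X.Modules} (φ : M ⟶ N) :
    φ = 0 ↔ ∀ x, (DerSch.stalkFunctor X x).map φ = 0 := by
  refine ⟨fun h x => h ▸ Functor.map_zero _ _ _, fun h => ?_⟩
  haveI : IsIso (kernel.ι φ) := isIso_of_stalk _ fun x => by
    rw [← kernelComparison_comp_ι φ (DerSch.stalkFunctor X x)]
    haveI : IsIso (kernel.ι ((DerSch.stalkFunctor X x).map φ)) :=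
      isIso_kernel_ι_of_eq_zero' (h x)
    infer_instance
  rw [← cancel_epi (kernel.ι φ), kernel.condition, comp_zero]

section Extend

variable {R S : Type u} [CommRing R] [CommRing S] (f : R →+* S)

theorem extendScalars_map_apply {A B : ModuleCat.{u} R} (g : A ⟶ B) :
    letI := f.toAlgebra
    ⇑((ModuleCat.extendScalars f).map g).hom = ⇑(LinearMap.lTensor S g.hom) := rfl

variable (hf : f.FaithfullyFlat) {A B : ModuleCat.{u} R} (g : A ⟶ B)

include hf in
theorem mono_extendScalars_iff :
    Mono ((ModuleCat.extendScalars f).map g) ↔ Mono g := by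
  letI := f.toAlgebra
  haveI : Module.FaithfullyFlat R S := hf
  rw [ModuleCat.mono_iff_injective, ModuleCat.mono_iff_injective,
    ← Module.FaithfullyFlat.lTensor_injective_iff_injective R S g.hom]
  exact Iff.rfl

include hf in
theorem epi_extendScalars_iff :
    Epi ((ModuleCat.extendScalars f).map g) ↔ Epi g := by
  letI := f.toAlgebra
  haveI : Module.FaithfullyFlat R S := hf
  rw [ModuleCat.epi_iff_surjective, ModuleCat.epi_iff_surjective,
    ← Module.FaithfullyFlat.lTensor_surjective_iff_surjective R S g.hom]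
  exact Iff.rfl

include hf in
theorem isIso_extendScalars_iff :
    IsIso ((ModuleCat.extendScalars f).map g) ↔ IsIso g := by
  haveI := ModuleCat.reflectsIsomorphisms_extendScalars_of_faithfullyFlat hf
  exact ⟨fun _ => isIso_of_reflects_iso g (ModuleCat.extendScalars f), fun _ => inferInstance⟩

include hf in
theorem eq_zero_extendScalars_iff :
    (ModuleCat.extendScalars f).map g = 0 ↔ g = 0 := by
  letI := f.toAlgebra
  haveI : Module.FaithfullyFlat R S := hf
  refine ⟨fun h => ?_, fun h => h ▸ Functor.map_zero _ _ _⟩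
  ext1
  apply (Module.FaithfullyFlat.zero_iff_lTensor_zero R S g.hom).2
  exact LinearMap.ext fun t => LinearMap.congr_fun (congrArg ModuleCat.Hom.hom h) t

end Extend

variable (f : X ⟶ Y) [Flat f] {M N : Y.Modules} (φ : M ⟶ N) (x : X)

theorem faithfullyFlat_stalkMap : (f.stalkMap x).hom.FaithfullyFlat := by
  letI := (f.stalkMap x).hom.toAlgebra
  haveI : Module.Flat (Y.presheaf.stalk (f.base x)) (X.presheaf.stalk x) := Flat.stalkMap f x
  haveI : IsLocalHom (algebraMap (Y.presheaf.stalk (f.base x)) (X.presheaf.stalk x)) :=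
    f.toLRSHom.prop x
  exact Module.FaithfullyFlat.of_flat_of_isLocalHom

theorem mono_stalk_pullback_iff :
    Mono ((DerSch.stalkFunctor X x).map ((Scheme.Modules.pullback f).map φ)) ↔
      Mono ((DerSch.stalkFunctor Y (f.base x)).map φ) := by
  rw [← mono_extendScalars_iff _ (faithfullyFlat_stalkMap f x) ((DerSch.stalkFunctor Y (f.base x)).map φ)]
  exact (MorphismProperty.monomorphisms (ModuleCat (X.presheaf.stalk x))).arrow_mk_iso_iff
    ((Functor.mapArrowFunctor _ _).mapIso (stalkPullbackIso f x) |>.app (Arrow.mk φ))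

theorem epi_stalk_pullback_iff :
    Epi ((DerSch.stalkFunctor X x).map ((Scheme.Modules.pullback f).map φ)) ↔
      Epi ((DerSch.stalkFunctor Y (f.base x)).map φ) := by
  rw [← epi_extendScalars_iff _ (faithfullyFlat_stalkMap f x) ((DerSch.stalkFunctor Y (f.base x)).map φ)]
  exact (MorphismProperty.epimorphisms (ModuleCat (X.presheaf.stalk x))).arrow_mk_iso_iff
    ((Functor.mapArrowFunctor _ _).mapIso (stalkPullbackIso f x) |>.app (Arrow.mk φ))

theorem isIso_stalk_pullback_iff :
    IsIso ((DerSch.stalkFunctor X x).map ((Scheme.Modules.pullback f).map φ)) ↔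
      IsIso ((DerSch.stalkFunctor Y (f.base x)).map φ) := by
  rw [← isIso_extendScalars_iff _ (faithfullyFlat_stalkMap f x) ((DerSch.stalkFunctor Y (f.base x)).map φ)]
  exact (MorphismProperty.isomorphisms (ModuleCat (X.presheaf.stalk x))).arrow_mk_iso_iff
    ((Functor.mapArrowFunctor _ _).mapIso (stalkPullbackIso f x) |>.app (Arrow.mk φ))

theorem eq_zero_stalk_pullback_iff :
    (DerSch.stalkFunctor X x).map ((Scheme.Modules.pullback f).map φ) = 0 ↔
      (DerSch.stalkFunctor Y (f.base x)).map φ = 0 := by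
  rw [← eq_zero_extendScalars_iff _ (faithfullyFlat_stalkMap f x) ((DerSch.stalkFunctor Y (f.base x)).map φ)]
  have h := (stalkPullbackIso f x).hom.naturality φ
  constructor <;> intro h0
  · rw [← cancel_epi ((stalkPullbackIso f x).hom.app M), comp_zero]
    exact h.symm.trans ((congrArg (· ≫ _) h0).trans zero_comp)
  · rw [← cancel_mono ((stalkPullbackIso f x).hom.app N), zero_comp]
    exact h.trans ((congrArg (_ ≫ ·) h0).trans comp_zero)

end Groth.Agent.FlatFunHx
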