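import Groth.Prelude.Def_FlatFun
import Groth.Agent.FlatFunHx.Stalk
import Groth.Agent.HilbDLib.Diagonal

/-!
# fpqc sheaf criterion for flattening functors; descent of properties of base-changed maps
-/

set_option autoImplicit false
set_option linter.style.haveILetI false
set_option backward.isDefEq.respectTransparency false

universe w u

open CategoryTheory CategoryTheory.Limits AlgebraicGeometry Opposite

namespace Groth.Agent.FlatFunHx

variable {S : Scheme.{u}}

/-- An fpqc covering is a jointly surjective family of flat morphisms. -/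
theorem flat_surj_of_mem_fpqc {T : Scheme.{u}} {ι : Type w} {Y : ι → Scheme.{u}} {g : ∀ i, Y i ⟶ T}
    (h : Presieve.ofArrows Y g ∈ Scheme.fpqcPrecoverage T) :
    (∀ x, ∃ i, x ∈ Set.range (g i)) ∧ ∀ i, Flat (g i) :=
  (Scheme.ofArrows_mem_precoverage_iff @Flat).1 (Scheme.propQCPrecoverage_le_precoverage (P := @Flat) _ h)

/-- A stable condition, local for flat jointly surjective families, defines an fpqc sheaf. -/
theorem isSheaf_genPSp (P : Over S → Prop) (hP : ∀ ⦃T' T : Over S⦄ (_ : T' ⟶ T), P T → P T')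
    (hloc : ∀ (T : Over S) (ι : Type (u + 1)) (Ti : ι → Over S) (g : ∀ i, Ti i ⟶ T),
      (∀ i, Flat (g i).left) → (∀ x, ∃ i, x ∈ Set.range (g i).left) → (∀ i, P (Ti i)) → P T) :
    Presheaf.IsSheaf (QuotSh.J Scheme.fpqcPrecoverage S) (FlatFun.genPSp S P) := by
  rw [isSheaf_iff_isSheaf_of_type]
  intro T σ hσ x _
  have hσ' : Sieve.overEquiv T σ ∈ Scheme.fpqcPrecoverage.toGrothendieck T.left := hσ
  rw [Precoverage.mem_toGrothendieck_iff_of_isStableUnderComposition] at hσ'
  obtain ⟨R, hR, hRσ⟩ := hσ'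
  obtain ⟨ι, Y, g, rfl⟩ := R.exists_eq_ofArrows
  obtain ⟨hsurj, hflat⟩ := flat_surj_of_mem_fpqc hR
  have hT : P T := hloc T ι (fun i => Over.mk (g i ≫ T.hom)) (fun i => Over.homMk (g i) rfl) hflat hsurj
    fun i => (FlatFun.genPSp_nonempty_iff_of_stable P (fun _ _ k => hP k) _).1
      ⟨x (Over.homMk (g i) rfl) ((Sieve.overEquiv_iff σ (g i)).1 (hRσ _ _ (Presieve.ofArrows.mk i)))⟩
  obtain ⟨t⟩ := FlatFun.genPSp_nonempty_of P hT
  haveI := fun (U : (Over S)ᵒᵖ) => FlatFun.genPSp_subsingleton S P U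
  exact ⟨t, fun V k hk => Subsingleton.elim _ _, fun t' _ => Subsingleton.elim _ _⟩

section BaseChange

variable {X : Scheme.{u}} (f : X ⟶ S) {T T' : Over S} (g : T' ⟶ T)

theorem isPullback_XTmap :
    IsPullback (PicF.XTmap f g) (PicF.XTproj f T') (PicF.XTproj f T) g.left :=
  HilbDLib.isPullback_XTmap f g

theorem XTmap_fst : PicF.XTmap f g ≫ pullback.fst f T.hom = pullback.fst f T'.hom :=
  (pullback.lift_fst _ _ _).trans (Category.comp_id _)

theorem flat_XTmap [Flat g.left] : Flat (PicF.XTmap f g) :=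
  MorphismProperty.of_isPullback (isPullback_XTmap f g).flip inferInstance

theorem exists_XTmap_eq {ι : Type w} {Ti : ι → Over S} (gi : ∀ i, Ti i ⟶ T)
    (hs : ∀ x, ∃ i, x ∈ Set.range (gi i).left) (x : PicF.XT f T) :
    ∃ i, x ∈ Set.range (PicF.XTmap f (gi i)) := by
  obtain ⟨i, t, ht⟩ := hs (PicF.XTproj f T x)
  obtain ⟨o, ho, -⟩ := Scheme.exists_preimage_of_isPullback (isPullback_XTmap f (gi i)) x t ht.symm
  exact ⟨i, o, ho⟩

/-- Pullback to `X_{T'}` factors through pullback to `X_T`. -/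
noncomputable def pullbackFstIso :
    Scheme.Modules.pullback (pullback.fst f T.hom) ⋙ Scheme.Modules.pullback (PicF.XTmap f g) ≅
      Scheme.Modules.pullback (pullback.fst f T'.hom) :=
  Scheme.Modules.pullbackComp _ _ ≪≫ Scheme.Modules.pullbackCongr (XTmap_fst f g)

variable {F G : X.Modules} (φ : F ⟶ G)

noncomputable def arrowIso :
    Arrow.mk ((Scheme.Modules.pullback (PicF.XTmap f g)).map ((Scheme.Modules.pullback (pullback.fst f T.hom)).map φ)) ≅
      Arrow.mk ((Scheme.Modules.pullback (pullback.fst f T'.hom)).map φ) :=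
  Arrow.isoMk' _ _ ((pullbackFstIso f g).app F) ((pullbackFstIso f g).app G) ((pullbackFstIso f g).hom.naturality φ).symm

/-- `u_T` is an isomorphism. -/
abbrev IsoAt (T : Over S) : Prop := IsIso ((Scheme.Modules.pullback (pullback.fst f T.hom)).map φ)
/-- `u_T` is an epimorphism. -/
abbrev EpiAt (T : Over S) : Prop := Epi ((Scheme.Modules.pullback (pullback.fst f T.hom)).map φ)
/-- `u_T` is a monomorphism. -/
abbrev MonoAt (T : Over S) : Prop := Mono ((Scheme.Modules.pullback (pullback.fst f T.hom)).map φ)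
/-- `u_T` is zero. -/
abbrev ZeroAt (T : Over S) : Prop := (Scheme.Modules.pullback (pullback.fst f T.hom)).map φ = 0

theorem isoAt_map_iff :
    IsIso ((Scheme.Modules.pullback (PicF.XTmap f g)).map ((Scheme.Modules.pullback (pullback.fst f T.hom)).map φ)) ↔
      IsoAt f φ T' :=
  (MorphismProperty.isomorphisms _).arrow_mk_iso_iff (arrowIso f g φ)

theorem epiAt_map_iff :
    Epi ((Scheme.Modules.pullback (PicF.XTmap f g)).map ((Scheme.Modules.pullback (pullback.fst f T.hom)).map φ)) ↔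
      EpiAt f φ T' :=
  (MorphismProperty.epimorphisms _).arrow_mk_iso_iff (arrowIso f g φ)

theorem monoAt_map_iff :
    Mono ((Scheme.Modules.pullback (PicF.XTmap f g)).map ((Scheme.Modules.pullback (pullback.fst f T.hom)).map φ)) ↔
      MonoAt f φ T' :=
  (MorphismProperty.monomorphisms _).arrow_mk_iso_iff (arrowIso f g φ)

theorem zeroAt_map_iff :
    (Scheme.Modules.pullback (PicF.XTmap f g)).map ((Scheme.Modules.pullback (pullback.fst f T.hom)).map φ) = 0 ↔
      ZeroAt f φ T' := by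
  have h := (pullbackFstIso f g).hom.naturality φ
  constructor <;> intro h0
  · rw [ZeroAt, ← cancel_epi ((pullbackFstIso f g).hom.app F), comp_zero]
    exact h.symm.trans ((congrArg (· ≫ _) h0).trans zero_comp)
  · rw [← cancel_mono ((pullbackFstIso f g).hom.app G), zero_comp]
    exact h.trans ((congrArg (_ ≫ ·) h0).trans comp_zero)

include g in
theorem isoAt_of_hom (h : IsoAt f φ T) : IsoAt f φ T' := (isoAt_map_iff f g φ).1 inferInstance

include g in
theorem epiAt_of_hom (h : EpiAt f φ T) : EpiAt f φ T' := by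
  haveI : (Scheme.Modules.pullback (PicF.XTmap f g)).IsLeftAdjoint :=
    (Scheme.Modules.pullbackPushforwardAdjunction _).isLeftAdjoint
  exact (epiAt_map_iff f g φ).1 inferInstance

include g in
theorem zeroAt_of_hom (h : ZeroAt f φ T) : ZeroAt f φ T' :=
  (zeroAt_map_iff f g φ).1 (by
    haveI : (Scheme.Modules.pullback (PicF.XTmap f g)).IsLeftAdjoint :=
      (Scheme.Modules.pullbackPushforwardAdjunction _).isLeftAdjoint
    rw [show (Scheme.Modules.pullback (pullback.fst f T.hom)).map φ = 0 from h, Functor.map_zero])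

variable {ι : Type w} {Ti : ι → Over S} (gi : ∀ i, Ti i ⟶ T) (hf : ∀ i, Flat (gi i).left)
  (hs : ∀ x, ∃ i, x ∈ Set.range (gi i).left)

include gi hf hs in
theorem isoAt_of_cover (h : ∀ i, IsoAt f φ (Ti i)) : IsoAt f φ T := (isIso_iff_stalk _).2 fun x => by
  obtain ⟨i, o, rfl⟩ := exists_XTmap_eq f gi hs x
  haveI := hf i
  haveI := flat_XTmap f (gi i)
  exact (isIso_stalk_pullback_iff _ _ o).1 ((isIso_iff_stalk _).1 ((isoAt_map_iff f (gi i) φ).2 (h i)) o)

include gi hf hs in
theorem epiAt_of_cover (h : ∀ i, EpiAt f φ (Ti i)) : EpiAt f φ T := (epi_iff_stalk _).2 fun x => by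
  obtain ⟨i, o, rfl⟩ := exists_XTmap_eq f gi hs x
  haveI := hf i
  haveI := flat_XTmap f (gi i)
  exact (epi_stalk_pullback_iff _ _ o).1 ((epi_iff_stalk _).1 ((epiAt_map_iff f (gi i) φ).2 (h i)) o)

include gi hf hs in
theorem monoAt_of_cover (h : ∀ i, MonoAt f φ (Ti i)) : MonoAt f φ T := (mono_iff_stalk _).2 fun x => by
  obtain ⟨i, o, rfl⟩ := exists_XTmap_eq f gi hs x
  haveI := hf i
  haveI := flat_XTmap f (gi i)
  exact (mono_stalk_pullback_iff _ _ o).1 ((mono_iff_stalk _).1 ((monoAt_map_iff f (gi i) φ).2 (h i)) o)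

include g in
theorem monoAt_of_flat [Flat g.left] (h : MonoAt f φ T) : MonoAt f φ T' := by
  haveI := flat_XTmap f g
  exact (monoAt_map_iff f g φ).1 ((mono_iff_stalk _).2 fun o =>
    (mono_stalk_pullback_iff _ _ o).2 ((mono_iff_stalk _).1 h _))

include gi hf hs in
theorem zeroAt_of_cover (h : ∀ i, ZeroAt f φ (Ti i)) : ZeroAt f φ T := (eq_zero_iff_stalk _).2 fun x => by
  obtain ⟨i, o, rfl⟩ := exists_XTmap_eq f gi hs x
  haveI := hf i
  haveI := flat_XTmap f (gi i)
  exact (eq_zero_stalk_pullback_iff _ _ o).1 ((eq_zero_iff_stalk _).1 ((zeroAt_map_iff f (gi i) φ).2 (h i)) o)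

end BaseChange

end Groth.Agent.FlatFunHx
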